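import Groth.Agent.L23.Lisse.Shift
import Groth.Agent.L23.PFin.Acyclic
import Groth.Agent.L27.XV.Proper
import Groth.Agent.L27.PBC.StalkH
import Groth.Agent.L27.PBC.GeomPoint

/-!
# Cospecialisation for higher direct images along proper locally acyclic morphisms
-/

set_option autoImplicit false
set_option linter.style.haveILetI false
set_option linter.unusedSectionVars false
set_option backward.isDefEq.respectTransparency false
set_option backward.isDefEq.respectTransparency.types false

universe u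

open CategoryTheory CategoryTheory.Limits AlgebraicGeometry Opposite IsLocalRing

noncomputable section

namespace Groth.L23.Lisse

open Groth.L27 Groth.L27.LimCoh Groth.L27.LimBC Groth.L27.FinBC Groth.L27.XV

section Strict

variable (R : Type u) [CommRing R] [HenselianLocalRing R] [IsSepClosed (ResidueField R)]

theorem nonempty_gsec_stalk :
    Nonempty (EtCore.gsec (Spec (CommRingCat.of R)) ≅ EtCoh.stalk (EtSite.closedPt R)) := by
  let Φ := Scheme.pointSmallEtale (EtSite.closedPt R)
  haveI : ∀ G : EtCoh.Ab (Spec (CommRingCat.of R)),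
      IsIso (Φ.toPresheafFiber (EtCoh.top _) (EtSite.topPt R) G.obj) := fun G =>
    (ConcreteCategory.isIso_iff_bijective _).2 (EtSite.bijective_toPresheafFiber R G.obj)
  exact ⟨NatIso.ofComponents (fun G => asIso (Φ.toPresheafFiber (EtCoh.top _) (EtSite.topPt R) G.obj))
    (fun {G H} φ => (Φ.toPresheafFiber_naturality φ.hom (EtCoh.top _) (EtSite.topPt R)).symm)⟩

theorem preservesFiniteColimits_gsec : PreservesFiniteColimits (EtCore.gsec (Spec (CommRingCat.of R))) := by
  obtain ⟨e⟩ := nonempty_gsec_stalk R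
  haveI : PreservesColimitsOfSize.{0, 0} (EtCoh.stalk (EtSite.closedPt R)) :=
    ((Scheme.pointSmallEtale (EtSite.closedPt R)).skyscraperSheafAdjunction).leftAdjoint_preservesColimits
  haveI : PreservesFiniteColimits (EtCoh.stalk (EtSite.closedPt R)) :=
    PreservesColimitsOfSize.preservesFiniteColimits _
  exact preservesFiniteColimits_of_natIso e.symm

/-- Sections of higher direct images over a strictly local scheme are cohomology groups. -/
theorem nonempty_gsec_Rpush {Y : Scheme.{u}} (f : Y ⟶ Spec (CommRingCat.of R)) (q : ℕ) :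
    Nonempty (EtCoh.Rpush f q ⋙ EtCore.gsec (Spec (CommRingCat.of R)) ≅ EtCoh.HF Y q) := by
  obtain ⟨e⟩ := nonempty_gsec_stalk R
  let S := EtCoh.stalk (EtSite.closedPt R)
  haveI : (EtCore.gsec Y).Additive := { }
  haveI : S.Additive := Functor.additive_of_preserves_binary_products _
  obtain ⟨a⟩ := StalkRpush.nonempty_rightDerived_comp_exact (EtCoh.push f) S q
  exact ⟨Functor.isoWhiskerLeft _ e ≪≫ a.symm ≪≫
    RDer.rightDerivedIso (Functor.isoWhiskerLeft _ e.symm ≪≫ EtCore.pushGsecIso f ≪≫ (StalkRpush.ΨIso Y).symm) q ≪≫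
    StalkRpush.derivedΨIso Y q⟩

end Strict

theorem bijective_map_iff {C : Type*} [Category C] {P P' : C ⥤ AddCommGrpCat.{u + 1}} (e : P ≅ P') {A B : C}
    (φ : A ⟶ B) : Function.Bijective (P.map φ) ↔ Function.Bijective (P'.map φ) := by
  rw [← ConcreteCategory.isIso_iff_bijective, ← ConcreteCategory.isIso_iff_bijective]
  exact NatIso.isIso_map_iff e φ

variable {R : Type u} [CommRing R] [HenselianLocalRing R] [IsSepClosed (ResidueField R)]
  {X : Scheme.{u}} (f : X ⟶ Spec (CommRingCat.of R)) [IsProper f]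
  {W : Scheme.{u}} {Ω : Type u} [Field Ω] [IsSepClosed Ω] (j : W ⟶ X) (fη : W ⟶ Spec (CommRingCat.of Ω))
  (t : Spec (CommRingCat.of Ω) ⟶ Spec (CommRingCat.of R)) (w : fη ≫ t = j ≫ f)
  [QuasiCompact j] [QuasiSeparated j] [QuasiCompact fη] [QuasiSeparated fη]
  [CompactSpace W] [QuasiSeparatedSpace W]
  {Xs : Scheme.{u}} (i : Xs ⟶ X) [IsPreimmersion i] [PreservesFiniteLimits (EtCoh.pull i)] (hi : Dominant i)
  (L : Set ℕ)

include w hi in
/-- The edge morphism. -/
theorem exists_edge : ∀ (q : ℕ) (G : EtCoh.Ab W), EtAcyc.IsLTorsion L G → VanishOn j i G q →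
    ∃ ψ : (EtCoh.Rpush f q).obj ((EtCoh.push j).obj G) ⟶ (EtCoh.push t).obj ((EtCoh.Rpush fη q).obj G),
      Function.Bijective ((EtCore.gsec (Spec (CommRingCat.of R))).map ψ) := by
  let Γ := EtCore.gsec (Spec (CommRingCat.of R))
  haveI : Γ.Additive := { }
  haveI : PreservesFiniteColimits Γ := preservesFiniteColimits_gsec R
  intro q
  induction q with
  | zero =>
    intro G _ _
    let e : (EtCoh.Rpush f 0).obj ((EtCoh.push j).obj G) ≅ (EtCoh.push t).obj ((EtCoh.Rpush fη 0).obj G) :=
      (EtCoh.push f).rightDerivedZeroIsoSelf.app _ ≪≫ (EtCoh.pushComp f j).app G ≪≫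
        (EtCoh.pushCongr w.symm).app G ≪≫ ((EtCoh.pushComp t fη).app G).symm ≪≫
          (EtCoh.push t).mapIso ((EtCoh.push fη).rightDerivedZeroIsoSelf.app G).symm
    exact ⟨e.hom, ConcreteCategory.bijective_of_isIso (Γ.map e.hom)⟩
  | succ q ih =>
    intro G hG hV
    obtain ⟨G', φ, _, hG', -, hG'R⟩ := CompTransfer.exists_torsion_effacement L G hG
    let E := ShortComplex.mk φ (cokernel.π φ) (cokernel.condition φ)
    have hE : E.ShortExact := { exact := ShortComplex.exact_of_g_is_cokernel _ (cokernelIsCokernel φ) }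
    have hQ : EtAcyc.IsLTorsion L E.X₃ := CompTransfer.isLTorsion_of_epi (cokernel.π φ) hG'
    obtain ⟨M, a, b, wM, hs₁, hs₂, hab, ⟨ec⟩⟩ := PFin.exists_image_ses (EtCoh.push j) hE
    haveI : Mono b := hs₂.mono_f
    haveI : Epi a := hs₁.epi_g
    -- vanishing for the quotient
    have hz : ∀ m, IsZero (((EtCoh.push j).rightDerived (m + 1)).obj E.X₂) :=
      fun m => hG'R j (m + 1) (Nat.succ_pos m)
    have hVQ : VanishOn j i E.X₃ q := fun y RX _ _ _ _ _ _ k hk hk' => by
      obtain ⟨m, rfl⟩ := Nat.exists_eq_add_of_le' (Nat.succ_le_of_lt hk)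
      obtain ⟨e⟩ := nonempty_shift_iso (EtCoh.push j) hE hz m
      exact (hV y RX (m + 2) (by omega) (by omega)).of_iso ((EtCoh.stalk (Hens2.geomPt X (i y) RX)).mapIso e)
    obtain ⟨ψ, hψ⟩ := ih E.X₃ hQ hVQ
    -- the monomorphism to the direct image of the quotient
    have hM : EtAcyc.IsLTorsion L M :=
      CompTransfer.isLTorsion_of_epi a (CompTransfer.isLTorsion_push L j hG')
    have hb : ∀ k, Function.Bijective ((EtCoh.HF X k).map b) := by
      intro k
      refine bijective_HF_of_dominant i hi b L hM (CompTransfer.isLTorsion_push L j hQ) (fun y => ?_) k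
      obtain ⟨RX, _, _, _, _, hR⟩ := L05.Henselization.exists_isStrictHenselization (X.presheaf.stalk (i y))
      haveI := hR
      obtain ⟨_, _⟩ := StalkBC.henselian_strict (i y) RX
      let ξ := Hens2.geomPt X (i y) RX
      refine ⟨ResidueField RX, inferInstance, inferInstance, ξ, PBC.geomPt_default X (i y) RX, ?_⟩
      haveI : PreservesColimitsOfSize.{0, 0} (EtCoh.stalk ξ) :=
        ((Scheme.pointSmallEtale ξ).skyscraperSheafAdjunction).leftAdjoint_preservesColimits
      haveI : PreservesFiniteColimits (EtCoh.stalk ξ) := PreservesColimitsOfSize.preservesFiniteColimits _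
      haveI : (EtCoh.stalk ξ).Additive := Functor.additive_of_preserves_binary_products _
      obtain ⟨e₁⟩ := nonempty_cokernel_iso (EtCoh.push j) hE (hz 0)
      have hc : IsZero (cokernel ((EtCoh.stalk ξ).map b)) :=
        (hV y RX 1 one_pos (Nat.succ_pos q)).of_iso
          ((PreservesCokernel.iso (EtCoh.stalk ξ) b).symm ≪≫ (EtCoh.stalk ξ).mapIso (ec ≪≫ e₁))
      haveI : Epi ((EtCoh.stalk ξ).map b) := Preadditive.epi_of_isZero_cokernel _ hc
      haveI : IsIso ((EtCoh.stalk ξ).map b) := isIso_of_mono_of_epi _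
      exact ConcreteCategory.bijective_of_isIso _
    have hbf : Function.Bijective (Γ.map ((EtCoh.Rpush f q).map b)) := by
      obtain ⟨e⟩ := nonempty_gsec_Rpush R f q
      exact (bijective_map_iff e b).2 (hb q)
    -- acyclicity of the direct image of the effacement
    have hzf : ∀ m, IsZero (((EtCoh.push f).rightDerived (m + 1)).obj ((EtCoh.push j).obj E.X₂)) := fun m => by
      haveI : QuasiCompact (j ≫ f) := inferInstance
      haveI : QuasiSeparated (j ≫ f) := inferInstance
      obtain ⟨e⟩ := PFin.nonempty_Rpush_comp_iso j f E.X₂ hz (m + 1)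
      exact (hG'R (j ≫ f) (m + 1) (Nat.succ_pos m)).of_iso e.symm
    have hzη : ∀ m, IsZero (((EtCoh.push fη).rightDerived (m + 1)).obj E.X₂) :=
      fun m => hG'R fη (m + 1) (Nat.succ_pos m)
    cases q with
    | zero =>
      obtain ⟨e₁⟩ := nonempty_cokernel_iso (EtCoh.push f) hs₁ (hzf 0)
      obtain ⟨e₂⟩ := nonempty_cokernel_iso (EtCoh.push fη) hE (hzη 0)
      let β := (EtCoh.push f).map b
      let a' := (EtCoh.push f).map ((EtCoh.push j).map E.g)
      have wβ : (EtCoh.push f).map a ≫ β = a' := by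
        show _ = (EtCoh.push f).map ((EtCoh.push j).map E.g)
        rw [← hab, Functor.map_comp]
      let m := cokernel.desc ((EtCoh.push f).map a) (β ≫ cokernel.π a')
        (by rw [← Category.assoc, wβ, cokernel.condition])
      haveI : IsIso (Γ.map β) := by
        have h0 : Function.Bijective (Γ.map β) :=
          (bijective_map_iff (Functor.isoWhiskerRight (EtCoh.push f).rightDerivedZeroIsoSelf Γ) b).1 hbf
        exact (ConcreteCategory.isIso_iff_bijective _).2 h0
      haveI : IsIso (Γ.map m) := isIso_map_cokernel_desc Γ _ _ β wβ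
      let c : EtCoh.push j ⋙ EtCoh.push f ≅ EtCoh.push fη ⋙ EtCoh.push t :=
        EtCoh.pushComp f j ≪≫ EtCoh.pushCongr w.symm ≪≫ (EtCoh.pushComp t fη).symm
      let e' : cokernel a' ≅ cokernel ((EtCoh.push t).map ((EtCoh.push fη).map E.g)) :=
        cokernel.mapIso _ _ (c.app E.X₂) (c.app E.X₃) (c.hom.naturality E.g)
      let k := cokernelComparison ((EtCoh.push fη).map E.g) (EtCoh.push t)
      haveI hk : IsIso (Γ.map k) := by
        haveI := Groth.L27.SepClosedPoint.isSepClosed_residueField Ω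
        haveI := preservesFiniteColimits_gsec Ω
        haveI : PreservesFiniteColimits (EtCoh.push t ⋙ Γ) :=
          preservesFiniteColimits_of_natIso (EtCore.pushGsecIso t).symm
        have h : cokernelComparison ((EtCoh.push t).map ((EtCoh.push fη).map E.g)) Γ ≫ Γ.map k =
            cokernelComparison ((EtCoh.push fη).map E.g) (EtCoh.push t ⋙ Γ) := by
          rw [← cancel_epi (cokernel.π _), π_comp_cokernelComparison_assoc, ← Functor.map_comp]
          refine (congrArg Γ.map (π_comp_cokernelComparison _ (EtCoh.push t))).trans ?_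
          exact (π_comp_cokernelComparison ((EtCoh.push fη).map E.g) (EtCoh.push t ⋙ Γ)).symm
        exact IsIso.of_isIso_fac_left h
      refine ⟨e₁.inv ≫ m ≫ e'.hom ≫ k ≫ (EtCoh.push t).map e₂.hom, ?_⟩
      haveI : IsIso (Γ.map (e₁.inv ≫ m ≫ e'.hom ≫ k ≫ (EtCoh.push t).map e₂.hom)) := by
        simp only [Functor.map_comp]
        infer_instance
      exact ConcreteCategory.bijective_of_isIso _
    | succ q =>
      obtain ⟨e₁⟩ := nonempty_shift_iso (EtCoh.push f) hs₁ hzf q
      obtain ⟨e₂⟩ := nonempty_shift_iso (EtCoh.push fη) hE hzη q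
      refine ⟨e₁.inv ≫ (EtCoh.Rpush f (q + 1)).map b ≫ ψ ≫ (EtCoh.push t).map e₂.hom, ?_⟩
      haveI : IsIso (Γ.map ψ) := (ConcreteCategory.isIso_iff_bijective _).2 hψ
      haveI : IsIso (Γ.map ((EtCoh.Rpush f (q + 1)).map b)) := (ConcreteCategory.isIso_iff_bijective _).2 hbf
      haveI : IsIso (Γ.map (e₁.inv ≫ (EtCoh.Rpush f (q + 1)).map b ≫ ψ ≫ (EtCoh.push t).map e₂.hom)) := by
        simp only [Functor.map_comp]
        infer_instance
      exact ConcreteCategory.bijective_of_isIso _

section Main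

/-- The morphism to the geometric fibre. -/
theorem exists_cospec (R : Type u) [CommRing R] [HenselianLocalRing R]
    [IsSepClosed (ResidueField R)] {X : Scheme.{u}} (f : X ⟶ Spec (CommRingCat.of R)) [IsProper f] (L : Set ℕ)
    (hL : ∃ ℓ ∈ L, ℓ.Prime) (n : ℕ) (hf : EtAcyc.IsLocAcyclicN f L n) (F : EtCoh.Ab X)
    (hF : EtAcyc.IsLTorsion L F) (hlc : EtRest.IsLocallyConstant F) (y₁ : Spec (CommRingCat.of R)) (Ω : Type u)
    [Field Ω] [IsSepClosed Ω] [Algebra ((Spec (CommRingCat.of R)).residueField y₁) Ω]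
    [Algebra.IsAlgebraic ((Spec (CommRingCat.of R)).residueField y₁) Ω] (q : ℕ) (hq : q ≤ n) :
    ∃ ψ : (EtCoh.Rpush f q).obj F ⟶ (EtCoh.push (EtAcyc.geomPt (Spec (CommRingCat.of R)) y₁ Ω)).obj
        ((EtCoh.Rpush (pullback.snd f (EtAcyc.geomPt (Spec (CommRingCat.of R)) y₁ Ω)) q).obj
          ((EtCoh.pull (pullback.fst f (EtAcyc.geomPt (Spec (CommRingCat.of R)) y₁ Ω))).obj F)),
      Function.Bijective ((EtCore.gsec (Spec (CommRingCat.of R))).map ψ) := by
  haveI := EtSite.preservesFiniteLimits_pull (pullback.fst f (EtAcyc.geomPt (Spec (CommRingCat.of R)) y₁ Ω))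
  let t := EtAcyc.geomPt (Spec (CommRingCat.of R)) y₁ Ω
  let j := pullback.fst f t
  haveI : IsAffineHom t := inferInstance
  haveI : IsAffineHom j := MorphismProperty.pullback_fst (P := @IsAffineHom) _ _ inferInstance
  haveI : CompactSpace X := QuasiCompact.compactSpace_of_compactSpace f
  haveI : QuasiSeparatedSpace X := quasiSeparatedSpace_of_quasiSeparated f
  haveI : CompactSpace ↥(pullback f t) := QuasiCompact.compactSpace_of_compactSpace j
  haveI : QuasiSeparatedSpace ↥(pullback f t) := quasiSeparatedSpace_of_quasiSeparated j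
  let i := pullback.fst f (Spec.map (CommRingCat.ofHom (residue R)))
  haveI : IsClosedImmersion (Spec.map (CommRingCat.ofHom (residue R))) :=
    IsClosedImmersion.spec_of_surjective _ residue_surjective
  haveI : IsClosedImmersion i := MorphismProperty.pullback_fst (P := @IsClosedImmersion) _ _ inferInstance
  haveI := EtSite.preservesFiniteLimits_pull i
  have hi : Dominant i := fun q G hG => Groth.L27.PBC.bijective_closedFibre f q G hG
  have hix : ∀ y, f (i y) = closedPoint R := fun y => by
    rw [← Scheme.Hom.comp_apply, pullback.condition, Scheme.Hom.comp_apply]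
    refine Eq.trans (congrArg _ (Subsingleton.elim _ (closedPoint (ResidueField R)))) ?_
    exact IsLocalRing.comap_closedPoint (residue R)
  -- acyclicity at the points of the closed fibre
  have key : ∀ y (RX : Type u) [CommRing RX] [HenselianLocalRing RX] [IsSepClosed (ResidueField RX)]
      [Algebra (X.presheaf.stalk (i y)) RX] [IsLocalHom (algebraMap (X.presheaf.stalk (i y)) RX)]
      [Hensel.IsStrictHenselization (X.presheaf.stalk (i y)) RX],
      Function.Bijective ((EtCoh.stalk (Hens2.geomPt X (i y) RX)).map ((EtCoh.pullPushAdj j).unit.app F)) ∧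
      ∀ q : ℕ, 0 < q → q ≤ n →
        IsZero ((EtCoh.stalk (Hens2.geomPt X (i y) RX)).obj ((EtCoh.Rpush j q).obj ((EtCoh.pull j).obj F))) := by
    intro y RX _ _ _ _ _ _
    let S := Spec (CommRingCat.of R)
    let η := Hens2.specOf X (i y) RX
    letI : Algebra (S.presheaf.stalk ((𝟙 S : S ⟶ S) (closedPoint R))) R :=
      (Scheme.stalkClosedPointTo (𝟙 S)).hom.toAlgebra
    obtain ⟨_, _⟩ := isStrictHenselization_closedPointTo R (𝟙 S)
    have hac : ∀ (s : S) (hs : f (i y) = s) [Algebra (S.presheaf.stalk s) R]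
        [IsLocalHom (algebraMap (S.presheaf.stalk s) R)] [Hensel.IsStrictHenselization (S.presheaf.stalk s) R],
        Hens2.specOf S s R = 𝟙 S → ∃ (_ : Algebra R RX),
          η ≫ f = Spec.map (CommRingCat.ofHom (algebraMap R RX)) ∧
            EtAcyc.IsAcyclicN (Spec.map (CommRingCat.ofHom (algebraMap R RX))) L n := by
      intro s hs _ _ _ hspec
      subst hs
      obtain ⟨ψ, _, hψ⟩ := StalkBC.exists_strictMap f (i y) R RX
      letI : Algebra R RX := ψ.toAlgebra
      haveI : IsLocalHom (algebraMap R RX) := ‹IsLocalHom ψ›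
      refine ⟨inferInstance, ?_, hf (i y) R RX hψ⟩
      exact (StalkBC.specOf_comp f (i y) R RX ψ hψ).symm.trans ((congrArg (_ ≫ ·) hspec).trans (Category.comp_id _))
    have hpt : f (i y) = (𝟙 S : S ⟶ S) (closedPoint R) := hix y
    obtain ⟨iA, hηf, hacyc⟩ := hac _ hpt (Scheme.Spec_stalkClosedPointTo_fromSpecStalk (𝟙 S))
    let k := pullback.snd j η
    let fΩ := pullback.fst j η ≫ pullback.snd f t
    have cZ : IsPullback k fΩ (Spec.map (CommRingCat.ofHom (algebraMap R RX))) t := by
      have h := (IsPullback.of_hasPullback j η).flip.paste_vert (IsPullback.of_hasPullback f t)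
      rw [hηf] at h
      exact h
    obtain ⟨hne, hconn, hvan⟩ := isAcyclicScheme_of_iso cZ.isoPullback.hom
      (FinBC.geomFibres_of_isAcyclicN _ L hL n hacyc y₁ Ω)
    haveI : QuasiCompact k := MorphismProperty.pullback_snd (P := @QuasiCompact) _ _ inferInstance
    haveI : QuasiSeparated k := MorphismProperty.pullback_snd (P := @QuasiSeparated) _ _ inferInstance
    haveI : CompactSpace ↥(pullback j η) := QuasiCompact.compactSpace_of_compactSpace k
    haveI : QuasiSeparatedSpace ↥(pullback j η) := quasiSeparatedSpace_of_quasiSeparated k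
    haveI := EtSite.preservesFiniteLimits_pull k
    haveI := EtSite.preservesFiniteLimits_pull η
    obtain ⟨A, ⟨α⟩⟩ := FinBC.exists_iso_K RX (L28.LocConst.isLocallyConstant_pull η F hlc)
    haveI : ConnectedSpace ↥(Spec (CommRingCat.of RX)) := FinBC.connectedSpace_local RX
    have hηF : EtAcyc.IsLTorsion L ((EtCoh.pull η).obj F) := L28.AcyComp.isLTorsion_pull η hF
    have hA : ∀ a : A, ∃ m, EtAcyc.PrimesIn L m ∧ m • a = 0 :=
      FinBC.exists_nsmul_eq_zero_of_isLTorsion_K (X := Spec (CommRingCat.of RX)) (L28.EtTor.isLTorsion_iff_stalks.2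
        fun Ω' _ _ ξ v => by
          obtain ⟨m, hm, h0⟩ := L28.EtTor.isLTorsion_iff_stalks.1 hηF Ω' ξ ((EtCoh.stalk ξ).map α.inv v)
          refine ⟨m, hm, (ConcreteCategory.bijective_of_isIso ((EtCoh.stalk ξ).map α.inv)).1 ?_⟩
          exact (map_nsmul ((EtCoh.stalk ξ).map α.inv).hom m v).trans (h0.trans (map_zero _).symm))
    refine stalk_acyclic_le j (i y) RX F n fun q hq => ?_
    refine bijective_Hpull_congr k α.symm q ?_
    rcases Nat.eq_zero_or_pos q with rfl | hq0
    · exact bijective_Hpull_zero_K k A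
    · haveI := EtSite.subsingleton_H RX (ConstSect.K A _) q hq0
      haveI : Subsingleton (EtCoh.H (pullback j η) (ConstSect.K A (pullback j η)) q) :=
        subsingleton_H_K (fun ℓ hℓ hℓL => hvan ℓ hℓ hℓL q hq0 hq) A hA
      haveI : Subsingleton (EtCoh.H (pullback j η) ((EtCoh.pull k).obj (ConstSect.K A _)) q) :=
        @Equiv.subsingleton _ _ ((EtCoh.HF (pullback j η) q).mapIso ((EtCore.pullConstIso k).app A)).addCommGroupIsoToAddEquiv.toEquiv this
      exact ⟨fun _ _ _ => Subsingleton.elim _ _, fun b => ⟨0, Subsingleton.elim _ _⟩⟩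
  have hG : EtAcyc.IsLTorsion L ((EtCoh.pull j).obj F) := L28.AcyComp.isLTorsion_pull j hF
  have hu : ∀ q, Function.Bijective ((EtCoh.HF X q).map ((EtCoh.pullPushAdj j).unit.app F)) := fun q => by
    refine bijective_HF_of_dominant i hi _ L hF (CompTransfer.isLTorsion_push L j hG) (fun y => ?_) q
    obtain ⟨RX, _, _, _, _, hR⟩ := L05.Henselization.exists_isStrictHenselization (X.presheaf.stalk (i y))
    haveI := hR
    obtain ⟨_, _⟩ := StalkBC.henselian_strict (i y) RX
    refine ⟨ResidueField RX, inferInstance, inferInstance, Hens2.geomPt X (i y) RX, ?_, (key y RX).1⟩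
    refine (Scheme.Hom.comp_apply _ _ _).trans (Eq.trans
      (congrArg (Hens2.specOf X (i y) RX) ?_) (specOf_closedPoint (i y) RX))
    rw [Subsingleton.elim (default : Spec (CommRingCat.of (ResidueField RX))) (closedPoint (ResidueField RX))]
    exact IsLocalRing.comap_closedPoint (residue RX)
  haveI : QuasiCompact j := inferInstance
  haveI : QuasiSeparated j := inferInstance
  let fη := pullback.snd f t
  haveI : IsProper fη := MorphismProperty.pullback_snd (P := @IsProper) _ _ inferInstance
  have hV : VanishOn j i ((EtCoh.pull j).obj F) q := fun y RX _ _ _ _ _ _ k hk hk' =>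
    (key y RX).2 k hk (hk'.trans hq)
  obtain ⟨ψ, hψ⟩ := exists_edge f j fη t pullback.condition.symm i hi L q _ hG hV
  refine ⟨(EtCoh.Rpush f q).map ((EtCoh.pullPushAdj j).unit.app F) ≫ ψ, ?_⟩
  obtain ⟨e⟩ := nonempty_gsec_Rpush R f q
  haveI : IsIso ((EtCore.gsec (Spec (CommRingCat.of R))).map ψ) := (ConcreteCategory.isIso_iff_bijective _).2 hψ
  haveI : IsIso ((EtCore.gsec (Spec (CommRingCat.of R))).map
      ((EtCoh.Rpush f q).map ((EtCoh.pullPushAdj j).unit.app F))) :=
    (ConcreteCategory.isIso_iff_bijective _).2 ((bijective_map_iff e _).2 (hu q))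
  rw [Functor.map_comp]
  exact ConcreteCategory.bijective_of_isIso _

/-- Sections over a strictly local scheme agree with the geometric stalks. -/
theorem bijective_gsec_unit (R : Type u) [CommRing R] [HenselianLocalRing R]
    [IsSepClosed (ResidueField R)] {X : Scheme.{u}} (f : X ⟶ Spec (CommRingCat.of R)) [IsProper f] (L : Set ℕ)
    (hL : ∃ ℓ ∈ L, ℓ.Prime) (n : ℕ) (hf : EtAcyc.IsLocAcyclicN f L n) (F : EtCoh.Ab X)
    (hF : EtAcyc.IsLTorsion L F) (hlc : EtRest.IsLocallyConstant F) (y₁ : Spec (CommRingCat.of R)) (Ω : Type u)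
    [Field Ω] [IsSepClosed Ω] [Algebra ((Spec (CommRingCat.of R)).residueField y₁) Ω]
    [Algebra.IsAlgebraic ((Spec (CommRingCat.of R)).residueField y₁) Ω] (q : ℕ) (hq : q ≤ n)
    (hfin : Finite ((EtCore.gsec (Spec (CommRingCat.of R))).obj ((EtCoh.Rpush f q).obj F))) :
    Function.Bijective ((EtCore.gsec (Spec (CommRingCat.of R))).map
      ((EtCoh.pullPushAdj (EtAcyc.geomPt (Spec (CommRingCat.of R)) y₁ Ω)).unit.app ((EtCoh.Rpush f q).obj F))) := by
  obtain ⟨ψ, hψ⟩ := exists_cospec R f L hL n hf F hF hlc y₁ Ω q hq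
  let t := EtAcyc.geomPt (Spec (CommRingCat.of R)) y₁ Ω
  let Γ := EtCore.gsec (Spec (CommRingCat.of R))
  let G := (EtCoh.Rpush f q).obj F
  let B := (EtCoh.Rpush (pullback.snd f t) q).obj ((EtCoh.pull (pullback.fst f t)).obj F)
  haveI := EtSite.preservesFiniteLimits_pull (pullback.fst f t)
  -- the middle group
  haveI := Groth.L27.SepClosedPoint.isSepClosed_residueField Ω
  haveI := PBC.isIso_bcQ f t (pullback.snd f t) (pullback.fst f t) (IsPullback.of_hasPullback f t) q F
    (AffineEfface.isTorsion_of_isLTorsion hF)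
  let e₁ : Γ.obj ((EtCoh.push t).obj ((EtCoh.pull t).obj G)) ≅ Γ.obj ((EtCoh.push t).obj B) :=
    Γ.mapIso ((EtCoh.push t).mapIso
      (asIso (EtBC.bcQ f t (pullback.snd f t) (pullback.fst f t) (IsPullback.of_hasPullback f t).w q F)))
  have hinj : Function.Injective (Γ.map ((EtCoh.pullPushAdj t).unit.app G)) := by
    have e : ψ = (EtCoh.pullPushAdj t).unit.app G ≫
        (EtCoh.push t).map (((EtCoh.pullPushAdj t).homEquiv _ _).symm ψ) :=
      ((Equiv.apply_symm_apply _ _).symm.trans (Adjunction.homEquiv_unit _ _ _ _))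
    rw [e, Functor.map_comp] at hψ
    exact Function.Injective.of_comp
      (f := Γ.map ((EtCoh.push t).map (((EtCoh.pullPushAdj t).homEquiv _ _).symm ψ))) hψ.1
  let f₂ : Γ.obj G ≃ Γ.obj ((EtCoh.push t).obj ((EtCoh.pull t).obj G)) :=
    (Equiv.ofBijective _ hψ).trans e₁.symm.addCommGroupIsoToAddEquiv.toEquiv
  haveI : Finite (Γ.obj G) := hfin
  haveI : Finite (Γ.obj ((EtCoh.pull t ⋙ EtCoh.push t).obj G)) := Finite.of_equiv _ f₂
  exact hinj.bijective_of_nat_card_le (Nat.card_congr f₂).ge

end Main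

end Groth.L23.Lisse
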