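import Groth.Agent.L23.Lisse.Cospec
import Groth.Agent.L28.Spz.Global
import Groth.Agent.L28.Spz.Card
import Groth.Agent.L05.Henselization.Strict

/-!
# Local constancy from cospecialisation
-/

set_option autoImplicit false
set_option linter.style.haveILetI false
set_option linter.unusedSectionVars false
set_option linter.overlappingInstances false
set_option backward.isDefEq.respectTransparency false
set_option backward.isDefEq.respectTransparency.types false

universe u

open CategoryTheory CategoryTheory.Limits AlgebraicGeometry Opposite IsLocalRing Topology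

noncomputable section

namespace Groth.L23.Lisse

open Groth.L27

/-- Sections over the strict localisations agree with the geometric stalks. -/
def HasCospec {S : Scheme.{u}} (G : EtCoh.Ab S) : Prop :=
  ∀ (V : S.Etale) (v : V.left) (R : Type u) [CommRing R] [HenselianLocalRing R] [IsSepClosed (ResidueField R)]
    [Algebra (V.left.presheaf.stalk v) R] [IsLocalHom (algebraMap (V.left.presheaf.stalk v) R)]
    [Hensel.IsStrictHenselization (V.left.presheaf.stalk v) R]
    (y : Spec (CommRingCat.of R)) (Ω : Type u) [Field Ω] [IsSepClosed Ω]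
    [Algebra ((Spec (CommRingCat.of R)).residueField y) Ω]
    [Algebra.IsAlgebraic ((Spec (CommRingCat.of R)).residueField y) Ω],
    Function.Bijective ((EtCore.gsec (Spec (CommRingCat.of R))).map
      ((EtCoh.pullPushAdj (EtAcyc.geomPt (Spec (CommRingCat.of R)) y Ω)).unit.app
        ((EtCoh.pull (Hens2.specOf V.left v R ≫ (V.hom : V.left ⟶ S))).obj G)))

theorem geomPt_apply {X : Scheme.{u}} (y : X) (Ω : Type u) [Field Ω] [Algebra (X.residueField y) Ω]
    (z : Spec (CommRingCat.of Ω)) : EtAcyc.geomPt X y Ω z = y :=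
  (Scheme.Hom.comp_apply _ _ _).trans (Scheme.fromSpecResidueField_apply _ _)

theorem closedPt_geomPt_default {X V : Scheme.{u}} (g : X ⟶ V) (y : X) (Ω : Type u) [Field Ω] [HenselianLocalRing Ω]
    [Algebra (X.residueField y) Ω] :
    ((EtSite.closedPt Ω ≫ EtAcyc.geomPt X y Ω) ≫ g) default = g y :=
  (Scheme.Hom.comp_apply _ _ _).trans (congrArg g ((Scheme.Hom.comp_apply _ _ _).trans (geomPt_apply y Ω _)))

theorem card_stalk_const_eq (T : Scheme.{u}) (M : Type) [AddCommGroup M] {Ω : Type u} [Field Ω] [IsSepClosed Ω]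
    (η : Spec (CommRingCat.of Ω) ⟶ T) : Nat.card ((EtCoh.stalk η).obj (EtCoh.const T M)) = Nat.card M := by
  exact (Nat.card_eq_of_bijective _ (Groth.L28.Spz.bijective_constGerm (M := M) η (Over.homMk η (Category.comp_id _)))).symm.trans
    (Nat.card_congr Equiv.ulift)

theorem bijective_map_of_square {A B : Type (u + 1)} {A' B' : Type (u + 1)} [Finite A] [Finite A'] {β : A → B}
    {γ : A' → B'} {uA : A → A'} {uB : B → B'} (hcard : Nat.card A' = Nat.card A) (hβ : Function.Bijective β)
    (hu : Function.Bijective uB) (w : ∀ a, uB (β a) = γ (uA a)) : Function.Bijective γ := by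
  have hb : Function.Bijective (γ ∘ uA) := by
    rw [show γ ∘ uA = uB ∘ β from funext fun a => (w a).symm]
    exact hu.comp hβ
  exact (Function.Bijective.of_comp_iff γ ((Function.Injective.of_comp hb.1).bijective_of_nat_card_le hcard.le)).1 hb

/-- Bijectivity on stalks does not depend on the geometric point. -/
theorem mem_bijLocus_of_bijective {T : Scheme.{u}} [CompactSpace T] [QuasiSeparatedSpace T] {A B : EtCoh.Ab T}
    (α : A ⟶ B) (hA : EtPBC.IsConstructible A) (hB : EtPBC.IsConstructible B) {Ω : Type u} [Field Ω] [IsSepClosed Ω]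
    (ξ₀ : Spec (CommRingCat.of Ω) ⟶ T) (h : Function.Bijective ((EtCoh.stalk ξ₀).map α)) {a : T}
    (ha : ξ₀ default = a) : a ∈ Groth.L28.Spz.bijLocus α := by
  have hk := Groth.L28.Strata.isConstructible_kernel_cokernel α hA hB
  haveI : PreservesColimitsOfSize.{0, 0} (EtCoh.stalk ξ₀) :=
    ((Scheme.pointSmallEtale ξ₀).skyscraperSheafAdjunction).leftAdjoint_preservesColimits
  haveI : (EtCoh.stalk ξ₀).Additive := Functor.additive_of_preserves_binary_products _
  haveI : IsIso ((EtCoh.stalk ξ₀).map α) := (ConcreteCategory.isIso_iff_bijective _).2 h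
  rw [Groth.L28.Spz.bijLocus_eq]
  refine ⟨fun Ω₁ _ _ ξ₁ e => ?_, fun Ω₁ _ _ ξ₁ e => ?_⟩
  · haveI : Subsingleton ((EtCoh.stalk ξ₀).obj (kernel α)) :=
      AddCommGrpCat.subsingleton_of_isZero ((isZero_kernel_of_mono _).of_iso (PreservesKernel.iso _ α))
    exact Groth.L28.ExtShriek.subsingleton_stalk_all hk.1 ξ₀ Ω₁ ξ₁ (e.trans ha.symm)
  · haveI : Subsingleton ((EtCoh.stalk ξ₀).obj (cokernel α)) :=
      AddCommGrpCat.subsingleton_of_isZero ((isZero_cokernel_of_epi _).of_iso (PreservesCokernel.iso _ α))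
    exact Groth.L28.ExtShriek.subsingleton_stalk_all hk.2 ξ₀ Ω₁ ξ₁ (e.trans ha.symm)

/-- A map from a constant sheaf which is bijective at a point is bijective at its generisations. -/
theorem mem_bijLocus_of_specializes {S : Scheme.{u}} {G : EtCoh.Ab S} (hc : EtPBC.IsConstructible G)
    (hP : HasCospec G) (V : S.Etale) [CompactSpace V.left] [QuasiSeparatedSpace V.left] {M : Type} [AddCommGroup M]
    [Finite M] (α : EtCoh.const V.left M ⟶ (EtCoh.pull (V.hom : V.left ⟶ S)).obj G) {v : V.left}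
    (hv : v ∈ Groth.L28.Spz.bijLocus α) {a : V.left} (ha : a ⤳ v) : a ∈ Groth.L28.Spz.bijLocus α := by
  let hm : V.left ⟶ S := V.hom
  obtain ⟨R, _, _, _, _, hR⟩ := Groth.L05.Henselization.exists_isStrictHenselization (V.left.presheaf.stalk v)
  haveI := hR
  obtain ⟨_, _⟩ := Groth.L27.StalkBC.henselian_strict v R
  haveI : Module.Flat (V.left.presheaf.stalk v) R := Groth.L05.Henselization.flat_of_isStrictHenselization _ R
  haveI : Module.FaithfullyFlat (V.left.presheaf.stalk v) R := Module.FaithfullyFlat.of_flat_of_isLocalHom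
  let aR := Hens2.specOf V.left v R
  obtain ⟨w, hw⟩ : ∃ w, V.left.fromSpecStalk v w = a := by
    have : a ∈ Set.range (V.left.fromSpecStalk v) := by
      rw [Scheme.range_fromSpecStalk]
      exact ha
    exact this
  obtain ⟨y, hy⟩ := PrimeSpectrum.comap_surjective_of_faithfullyFlat
    (A := V.left.presheaf.stalk v) (B := R) w
  let y' : Spec (CommRingCat.of R) := y
  have hay : aR y' = a := by
    rw [← hw, ← hy]
    exact Scheme.Hom.comp_apply _ _ _
  let Ω := AlgebraicClosure ((Spec (CommRingCat.of R)).residueField y')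
  haveI : IsSepClosed Ω := inferInstance
  haveI := Groth.L27.SepClosedPoint.isSepClosed_residueField Ω
  let t := EtAcyc.geomPt (Spec (CommRingCat.of R)) y' Ω
  -- the pulled back map
  let GV := (EtCoh.pull hm).obj G
  let C := (EtCoh.pull aR).obj (EtCoh.const V.left M)
  let B := (EtCoh.pull aR).obj GV
  let β : C ⟶ B := (EtCoh.pull aR).map α
  let Γ := EtCore.gsec (Spec (CommRingCat.of R))
  obtain ⟨σ⟩ := nonempty_gsec_stalk R
  obtain ⟨σΩ⟩ := nonempty_gsec_stalk Ω
  have hvd : (EtSite.closedPt R ≫ aR) default = v := Groth.L27.PBC.geomPt_default V.left v R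
  have hβ : Function.Bijective (Γ.map β) :=
    (bijective_map_iff σ β).2 ((Groth.L27.LimBC.bijective_stalk_comp aR (EtSite.closedPt R) rfl α).2
      (hv _ _ hvd))
  have hu : Function.Bijective (Γ.map ((EtCoh.pullPushAdj t).unit.app B)) := by
    let e : (EtCoh.pull (aR ≫ hm)).obj G ≅ B := (EtCore.pullComp aR hm).app G
    haveI : IsIso (Γ.map ((EtCoh.pullPushAdj t).unit.app ((EtCoh.pull (aR ≫ hm)).obj G))) :=
      (ConcreteCategory.isIso_iff_bijective _).2 (hP V v R y' Ω)
    have h2 : (EtCoh.pullPushAdj t).unit.app B = e.inv ≫ (EtCoh.pullPushAdj t).unit.app _ ≫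
        (EtCoh.push t).map ((EtCoh.pull t).map e.hom) := by
      rw [← cancel_epi e.hom, Iso.hom_inv_id_assoc]
      exact (EtCoh.pullPushAdj t).unit.naturality e.hom
    haveI : IsIso (Γ.map ((EtCoh.pullPushAdj t).unit.app B)) := by
      rw [h2, Functor.map_comp, Functor.map_comp]
      exact IsIso.comp_isIso' inferInstance (IsIso.comp_isIso' inferInstance inferInstance)
    exact ConcreteCategory.bijective_of_isIso _
  -- cardinals
  have hC : Nat.card (Γ.obj C) = Nat.card M := by
    exact (Nat.card_congr (σ.app C ≪≫ (EtCoh.stalk (EtSite.closedPt R)).mapIso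
      (EtCore.pullConst aR M)).addCommGroupIsoToAddEquiv.toEquiv).trans (card_stalk_const_eq _ M _)
  have hC' : Nat.card (Γ.obj ((EtCoh.push t).obj ((EtCoh.pull t).obj C))) = Nat.card M := by
    exact (Nat.card_congr ((EtCore.pushGsecIso t).app _ ≪≫ σΩ.app _ ≪≫ (EtCoh.stalk (EtSite.closedPt Ω)).mapIso
      ((EtCoh.pull t).mapIso (EtCore.pullConst aR M) ≪≫ EtCore.pullConst t M)).addCommGroupIsoToAddEquiv.toEquiv).trans
      (card_stalk_const_eq _ M _)
  haveI : Finite (Γ.obj C) := Nat.finite_of_card_ne_zero (hC.trans_ne Nat.card_pos.ne')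
  haveI : Finite (Γ.obj ((EtCoh.push t).obj ((EtCoh.pull t).obj C))) :=
    Nat.finite_of_card_ne_zero (hC'.trans_ne Nat.card_pos.ne')
  have hγ : Function.Bijective (Γ.map ((EtCoh.push t).map ((EtCoh.pull t).map β))) := by
    refine @bijective_map_of_square _ _ _ _ (show Finite (Γ.obj C) by assumption)
      (show Finite (Γ.obj ((EtCoh.push t).obj ((EtCoh.pull t).obj C))) by assumption) _ _
      (Γ.map ((EtCoh.pullPushAdj t).unit.app C)) _ (hC'.trans hC.symm) hβ hu fun x => ?_
    have hn : Γ.map β ≫ Γ.map ((EtCoh.pullPushAdj t).unit.app B) =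
        Γ.map ((EtCoh.pullPushAdj t).unit.app C) ≫ Γ.map ((EtCoh.push t).map ((EtCoh.pull t).map β)) :=
      (Γ.map_comp _ _).symm.trans ((congrArg (Γ.map ·) ((EtCoh.pullPushAdj t).unit.naturality β)).trans (Γ.map_comp _ _))
    exact ((ConcreteCategory.comp_apply _ _ _).symm.trans (ConcreteCategory.congr_hom hn x)).trans
      (ConcreteCategory.comp_apply _ _ _)
  have hγ' : Function.Bijective ((EtCoh.stalk ((EtSite.closedPt Ω ≫ t) ≫ aR)).map α) :=
    (Groth.L27.LimBC.bijective_stalk_comp aR (EtSite.closedPt Ω ≫ t) rfl α).1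
      ((Groth.L27.LimBC.bijective_stalk_comp t (EtSite.closedPt Ω) rfl β).1
        ((bijective_map_iff σΩ _).1 ((bijective_map_iff (EtCore.pushGsecIso t) _).1 hγ)))
  have had : ((EtSite.closedPt Ω ≫ t) ≫ aR) default = a :=
    (closedPt_geomPt_default aR y' Ω).trans hay
  exact mem_bijLocus_of_bijective α
    (Groth.L28.Spz.isConstructible_of_isFLC (Groth.L28.ExtShriek.isFLC_const V.left M))
    (Groth.L28.ExtShriek.isConstructible_pull hm hc) _ hγ' had

/-- Constructible sheaves with bijective cospecialisations are finite locally constant. -/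
theorem isFLC_of_hasCospec {S : Scheme.{u}} {G : EtCoh.Ab S} (hc : EtPBC.IsConstructible G) (hP : HasCospec G) :
    EtCoh.IsFiniteLocallyConstant G := by
  refine Groth.L28.Spz.isFLC_of_local G fun x => ?_
  obtain ⟨Ω, _, _, ξ, hξ⟩ := EtSite.exists_geometric_point x
  haveI hfin := Groth.L28.Spz.finite_stalk' hc ξ
  obtain ⟨V, hV, y, M, _, _, s, hs⟩ := Groth.L28.Spz.exists_lift_stalk ξ G hfin
  haveI := hV
  let hm : V.left ⟶ S := V.hom
  haveI : AlgebraicGeometry.Etale hm := V.prop
  obtain ⟨η₀, hη₀⟩ : ∃ η : Spec (CommRingCat.of Ω) ⟶ V.left, y.left = η := ⟨_, rfl⟩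
  have w : η₀ ≫ V.hom = ξ := hη₀ ▸ Over.w y
  subst w
  have hs' := (Groth.L28.Spz.bijective_germ_of_germY y η₀ hη₀ hs)
  obtain ⟨α, hα⟩ := Groth.L28.Spz.exists_alpha G V s
  have hk := Groth.L28.Strata.isConstructible_kernel_cokernel α
    (Groth.L28.Spz.isConstructible_of_isFLC (Groth.L28.ExtShriek.isFLC_const V.left M))
    (Groth.L28.ExtShriek.isConstructible_pull hm hc)
  have hC : IsConstructible (Groth.L28.Spz.bijLocus α) := by
    rw [Groth.L28.Spz.bijLocus_eq]
    exact (Groth.L28.Locus.isConstructible_zero_stalks hk.1).inter (Groth.L28.Locus.isConstructible_zero_stalks hk.2)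
  haveI : PreservesColimitsOfSize.{0, 0} (EtCoh.stalk η₀) :=
    ((Scheme.pointSmallEtale η₀).skyscraperSheafAdjunction).leftAdjoint_preservesColimits
  have hv : η₀ default ∈ Groth.L28.Spz.bijLocus α :=
    mem_bijLocus_of_bijective α (Groth.L28.Spz.isConstructible_of_isFLC (Groth.L28.ExtShriek.isFLC_const V.left M))
      (Groth.L28.ExtShriek.isConstructible_pull hm hc) η₀ ((hα Ω η₀).1 hs') rfl
  obtain ⟨O, hO, hOC⟩ := Groth.L28.Spz.exists_open_subset hC (q := η₀ default) fun a ha =>
    mem_bijLocus_of_specializes hc hP V α hv ha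
  haveI : IsIso (pullback.snd (𝟙 S) hm) := inferInstance
  let O' : (pullback (𝟙 S) V.hom).Opens := pullback.snd (𝟙 S) hm ⁻¹ᵁ O
  let U : S.Opens := ⟨pullback.fst (𝟙 S) hm '' O', (pullback.fst (𝟙 S) hm).isOpenMap _ O'.2⟩
  refine ⟨U, ?_, ?_⟩
  · obtain ⟨o, ho⟩ := (pullback.snd (𝟙 S) hm).surjective (η₀ default)
    refine ⟨o, show pullback.snd (𝟙 S) hm o ∈ O from ho.symm ▸ hO, ?_⟩
    have e := congrArg (fun m => m o) (pullback.condition (f := 𝟙 S) (g := hm))
    simp only [Category.comp_id, Scheme.Hom.comp_apply] at e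
    rw [e, ho, ← hξ]
    exact (Scheme.Hom.comp_apply _ _ _).symm
  · rw [← Category.comp_id U.ι]
    refine Groth.L28.Spz.isFLC_of_germs (𝟙 S) G V s U O' (fun t ⟨o, ho, e⟩ => ⟨o, ho, e⟩) fun o ho => ?_
    obtain ⟨Ω₁, _, _, ζ, hζ⟩ := EtSite.exists_geometric_point (X := V.left) (pullback.snd (𝟙 S) hm o)
    exact ⟨Ω₁, inferInstance, inferInstance, ζ, hζ, (hα Ω₁ ζ).2 (hOC ho Ω₁ ζ hζ)⟩

end Groth.L23.Lisse
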