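import Groth.Agent.L23.Lisse.Main
import Groth.Agent.L27.XV.Global
import Groth.Agent.L27.SmoothLA.Main
import Groth.Agent.L27.ProperH1.Main
import Groth.Agent.L23.SchemeFacts

/-!
# Local constancy for proper locally acyclic morphisms over noetherian schemes
-/

set_option autoImplicit false
set_option linter.style.haveILetI false
set_option linter.unusedSectionVars false
set_option linter.overlappingInstances false
set_option backward.isDefEq.respectTransparency false
set_option backward.isDefEq.respectTransparency.types false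

universe u

open CategoryTheory CategoryTheory.Limits AlgebraicGeometry Opposite IsLocalRing
open scoped TensorProduct

noncomputable section

namespace Groth.L23.Lisse

open Groth.L27

/-- Local acyclicity gives acyclic geometric fibres of the strict localisations. -/
theorem geomFibres_of_isLocallyAcyclic {X S : Scheme.{u}} (f : X ⟶ S) (hf : EtRest.IsLocallyAcyclic f) (L : Set ℕ)
    (hL : ∀ ℓ ∈ L, ℓ.Prime → ∀ x : X, (ℓ : X.residueField x) ≠ 0) (hL' : ∃ ℓ ∈ L, ℓ.Prime) (n : ℕ) :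
    EtAcyc.OnStrictLocalizations f (fun _ _ h => EtAcyc.GeomFibresAcyclicN L n h) := by
  intro x RS RX _ _ _ _ _ _ _ _ _ _ _ _ hc y Ω _ _ _ _
  letI : Algebra RS Ω := (Spec.preimage (EtAcyc.geomPt (Spec (CommRingCat.of RS)) y Ω)).hom.toAlgebra
  have ht : Spec.map (CommRingCat.ofHom (algebraMap RS Ω)) = EtAcyc.geomPt (Spec (CommRingCat.of RS)) y Ω :=
    Spec.map_preimage _
  refine XV.isAcyclicScheme_of_iso ((pullback.congrHom rfl ht.symm).hom ≫ (pullbackSpecIso RS RX Ω).hom) ?_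
  obtain ⟨ℓ₀, hℓ₀L, hℓ₀⟩ := hL'
  haveI : Fact ℓ₀.Prime := ⟨hℓ₀⟩
  obtain ⟨h1, h2⟩ := FinBC.connectedSpace_of_H0 _ (hf x RS RX hc Ω ℓ₀ (hL ℓ₀ hℓ₀L hℓ₀ x)).2
  exact ⟨h1, h2, fun ℓ hℓ hℓL q hq _ => (hf x RS RX hc Ω ℓ (hL ℓ hℓL hℓ x)).1 q hq⟩

/-- Local acyclicity in terms of vanishing cycles gives local acyclicity for invertible primes. -/
theorem isLocAcyclicN_of_isLocallyAcyclic {X S : Scheme.{u}} (f : X ⟶ S) (hf : EtRest.IsLocallyAcyclic f) (L : Set ℕ)
    (hL : ∀ ℓ ∈ L, ℓ.Prime → ∀ x : X, (ℓ : X.residueField x) ≠ 0) (n : ℕ) : EtAcyc.IsLocAcyclicN f L n := by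
  by_cases h : ∃ ℓ ∈ L, ℓ.Prime
  · exact XV.isLocAcyclicN_of_fibres f L h n (geomFibres_of_isLocallyAcyclic f hf L hL h n)
  · push Not at h
    exact SmoothLA.isLocAcyclicN_of_no_prime f L h n

/-- Direct images of constant sheaves along proper locally acyclic morphisms. -/
theorem isFLC_Rpush_const {X S : Scheme.{u}} [AlgebraicGeometry.IsNoetherian S] (f : X ⟶ S) [IsProper f]
    (hf : EtRest.IsLocallyAcyclic f) (n : ℕ) (hn : IsUnit (n : Γ(S, ⊤))) (q : ℕ) :
    EtCoh.IsFiniteLocallyConstant ((EtCoh.Rpush f q).obj (EtCoh.const X (ZMod n))) := by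
  haveI : LocallyOfFinitePresentation f := lfp_of_lft_locallyNoetherian f
  rcases Nat.eq_zero_or_pos n with rfl | hpos
  · refine L28.Spz.isFLC_of_local _ fun s => ?_
    have h := hn.map (S.presheaf.germ ⊤ s trivial).hom
    rw [Nat.cast_zero, map_zero, isUnit_zero_iff] at h
    exact absurd h zero_ne_one
  haveI : NeZero n := ⟨hpos.ne'⟩
  let L : Set ℕ := {ℓ | ℓ ∣ n}
  refine isFLC_Rpush f q (EtCoh.const X (ZMod n)) L (isLocAcyclicN_of_isLocallyAcyclic f hf L ?_ q)
    (fun U s x => ⟨U, 𝟙 U, n, ⟨x, rfl⟩, ⟨hpos, fun p _ hd => hd⟩, ?_⟩)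
    (L28.ExtShriek.isFLC_const X (ZMod n)) q le_rfl
  · intro ℓ hℓ _ x h
    have h1 : IsUnit (ℓ : Γ(S, ⊤)) := by
      obtain ⟨c, hc⟩ := hℓ
      rw [hc, Nat.cast_mul] at hn
      exact isUnit_of_mul_isUnit_left hn
    have h2 := h1.map ((Scheme.ΓSpecIso (X.residueField x)).hom.hom.comp (X.fromSpecResidueField x ≫ f).appTop.hom)
    rw [map_natCast] at h2
    exact h2.ne_zero h
  · have := Groth.L27.ProperH1.killedBy_const (Y := X) (ZMod n) U s
    simp only [Nat.card_zmod] at this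
    simpa using this

end Groth.L23.Lisse
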