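import Groth.Agent.L23.Lisse.Crit
import Groth.Agent.L23.PFin.General
import Groth.Agent.L28.LocConst.PullInst

/-!
# Higher direct images of locally constant sheaves along proper locally acyclic morphisms
-/

set_option autoImplicit false
set_option linter.style.haveILetI false
set_option linter.unusedSectionVars false
set_option linter.overlappingInstances false
set_option backward.isDefEq.respectTransparency false
set_option backward.isDefEq.respectTransparency.types false

universe u

open CategoryTheory CategoryTheory.Limits AlgebraicGeometry Opposite IsLocalRing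

noncomputable section

namespace Groth.L23.Lisse

open Groth.L27

theorem isLocallyConstant_of_isFLC {X : Scheme.{u}} {F : EtCoh.Ab X} (hF : EtCoh.IsFiniteLocallyConstant F) :
    EtRest.IsLocallyConstant F := by
  obtain ⟨ι, U, hU, h⟩ := hF
  refine ⟨ι, U, hU, fun i => ?_⟩
  obtain ⟨M, _, _, e⟩ := h i
  exact ⟨ULift.{u + 1} M, inferInstance, e⟩

theorem bijective_gsec_unit_of_iso {R : Type u} [CommRing R] {P : Scheme.{u}}
    (t : P ⟶ Spec (CommRingCat.of R)) {A B : EtCoh.Ab (Spec (CommRingCat.of R))} (e : A ≅ B)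
    (h : Function.Bijective ((EtCore.gsec (Spec (CommRingCat.of R))).map ((EtCoh.pullPushAdj t).unit.app B))) :
    Function.Bijective ((EtCore.gsec (Spec (CommRingCat.of R))).map ((EtCoh.pullPushAdj t).unit.app A)) := by
  let Γ := EtCore.gsec (Spec (CommRingCat.of R))
  haveI : IsIso (Γ.map ((EtCoh.pullPushAdj t).unit.app B)) := (ConcreteCategory.isIso_iff_bijective _).2 h
  have h2 : (EtCoh.pullPushAdj t).unit.app A = e.hom ≫ (EtCoh.pullPushAdj t).unit.app B ≫
      (EtCoh.push t).map ((EtCoh.pull t).map e.inv) := by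
    rw [← cancel_epi e.inv, Iso.inv_hom_id_assoc]
    exact (EtCoh.pullPushAdj t).unit.naturality e.inv
  haveI : IsIso (Γ.map ((EtCoh.pullPushAdj t).unit.app A)) := by
    rw [h2, Functor.map_comp, Functor.map_comp]
    exact IsIso.comp_isIso' inferInstance (IsIso.comp_isIso' inferInstance inferInstance)
  exact ConcreteCategory.bijective_of_isIso _

variable {X S : Scheme.{u}} (f : X ⟶ S) [IsProper f] [LocallyOfFinitePresentation f] (n : ℕ) (F : EtCoh.Ab X)
  (hlc : EtCoh.IsFiniteLocallyConstant F) (ht : EtCoh.IsTorsion F)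

include hlc ht in
/-- Higher direct images cospecialise bijectively if they do so over all strictly local bases. -/
theorem hasCospec_Rpush_of_strict (q : ℕ) (hq : q ≤ n)
    (H : ∀ (R : Type u) [CommRing R] [HenselianLocalRing R] [IsSepClosed (ResidueField R)]
      (a : Spec (CommRingCat.of R) ⟶ S) [WeaklyEtale a], ∃ L : Set ℕ, (∃ ℓ ∈ L, ℓ.Prime) ∧
        EtAcyc.IsLocAcyclicN (pullback.snd f a) L n ∧
          EtAcyc.IsLTorsion L ((EtCoh.pull (pullback.fst f a)).obj F)) :
    HasCospec ((EtCoh.Rpush f q).obj F) := by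
  intro V v R _ _ _ _ _ _ y Ω _ _ _ _
  let a := Hens2.specOf V.left v R ≫ (V.hom : V.left ⟶ S)
  haveI : WeaklyEtale (Hens2.specOf V.left v R) := Acyclic0.weaklyEtale_fromStrict v R
  haveI : AlgebraicGeometry.Etale (V.hom : V.left ⟶ S) := V.prop
  haveI : WeaklyEtale a := inferInstance
  let fR := pullback.snd f a
  let gX := pullback.fst f a
  haveI : IsProper fR := MorphismProperty.pullback_snd (P := @IsProper) _ _ inferInstance
  haveI : LocallyOfFinitePresentation fR :=
    MorphismProperty.pullback_snd (P := @LocallyOfFinitePresentation) _ _ inferInstance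
  haveI : WeaklyEtale gX := MorphismProperty.pullback_fst (P := @WeaklyEtale) _ _ inferInstance
  obtain ⟨L, hL, hfR, hF'⟩ := H R a
  haveI := EtSite.preservesFiniteLimits_pull gX
  let F' := (EtCoh.pull gX).obj F
  have hlc' : EtCoh.IsFiniteLocallyConstant F' := L28.LocConst.isFiniteLocallyConstant_pull gX F hlc
  have hc : EtPBC.IsConstructible ((EtCoh.Rpush fR q).obj F') :=
    PFin.isConstructible_Rpush fR F' (L28.Spz.isConstructible_of_isFLC hlc')
      (AffineEfface.isTorsion_of_isLTorsion hF') q
  haveI : Finite ((EtCoh.stalk (EtSite.closedPt R)).obj ((EtCoh.Rpush fR q).obj F')) :=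
    L28.Spz.finite_stalk' hc _
  obtain ⟨σ⟩ := nonempty_gsec_stalk R
  have hfin : Finite ((EtCore.gsec (Spec (CommRingCat.of R))).obj ((EtCoh.Rpush fR q).obj F')) :=
    Finite.of_equiv _ (σ.app _).addCommGroupIsoToAddEquiv.toEquiv.symm
  haveI := PBC.isIso_bcQ f a fR gX (IsPullback.of_hasPullback f a) q F ht
  exact bijective_gsec_unit_of_iso (EtAcyc.geomPt _ y Ω)
    (asIso (EtBC.bcQ f a fR gX (IsPullback.of_hasPullback f a).w q F))
    (bijective_gsec_unit R fR L hL n hfR F' hF' (isLocallyConstant_of_isFLC hlc') y Ω q hq hfin)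

/-- Higher direct images along proper locally acyclic morphisms cospecialise bijectively. -/
theorem hasCospec_Rpush (L : Set ℕ) (hf : EtAcyc.IsLocAcyclicN f L n) (hF : EtAcyc.IsLTorsion L F)
    (hlc : EtCoh.IsFiniteLocallyConstant F) (hL : ∃ ℓ ∈ L, ℓ.Prime) (q : ℕ) (hq : q ≤ n) :
    HasCospec ((EtCoh.Rpush f q).obj F) := by
  refine hasCospec_Rpush_of_strict f n F hlc (AffineEfface.isTorsion_of_isLTorsion hF) q hq
    fun R _ _ _ a _ => ⟨L, hL, ?_, ?_⟩
  · haveI : WeaklyEtale (pullback.fst f a) := MorphismProperty.pullback_fst (P := @WeaklyEtale) _ _ inferInstance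
    exact XV.onStrict_transfer (pullback.fst f a) a pullback.condition hf
  · haveI := EtSite.preservesFiniteLimits_pull (pullback.fst f a)
    exact L28.AcyComp.isLTorsion_pull _ hF

/-- Higher direct images along proper locally acyclic morphisms of finite locally constant sheaves are finite
locally constant. -/
theorem isFLC_Rpush (L : Set ℕ) (hf : EtAcyc.IsLocAcyclicN f L n) (hF : EtAcyc.IsLTorsion L F)
    (hlc : EtCoh.IsFiniteLocallyConstant F) (q : ℕ) (hq : q ≤ n) : EtCoh.IsFiniteLocallyConstant ((EtCoh.Rpush f q).obj F) := by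
  by_cases hL : ∃ ℓ ∈ L, ℓ.Prime
  · exact isFLC_of_hasCospec (PFin.isConstructible_Rpush f F (L28.Spz.isConstructible_of_isFLC hlc)
      (AffineEfface.isTorsion_of_isLTorsion hF) q) (hasCospec_Rpush f n F L hf hF hlc hL q hq)
  · push Not at hL
    exact L28.ExtShriek.isFLC_of_isZero ((EtCoh.Rpush f q).map_isZero (XV.isZero_of_no_prime hL hF))

end Groth.L23.Lisse
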