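import Groth.Agent.L23.PFin.Comp

/-!
# Dimension shifting along acyclic middle terms
-/

set_option autoImplicit false
set_option linter.style.haveILetI false
set_option linter.unusedSectionVars false
set_option backward.isDefEq.respectTransparency false

universe w v u v' u'

open CategoryTheory CategoryTheory.Limits CategoryTheory.Pretriangulated

namespace Groth.L23.Lisse

open Groth.L00.RDerLES Groth.L17.GrothSS Groth.L23.PFin

variable {C : Type u} [Category.{v} C] [Abelian C] [EnoughInjectives C] [HasInjectiveResolutions C]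
  {D : Type u'} [Category.{v'} D] [Abelian D] (S : C ⥤ D) [S.Additive]
  {T : ShortComplex C} (hT : T.ShortExact)

include hT in
/-- Dimension shifting. -/
theorem nonempty_shift_iso (hz : ∀ m : ℕ, IsZero ((S.rightDerived (m + 1)).obj T.X₂)) (n : ℕ) :
    Nonempty ((S.rightDerived (n + 1)).obj T.X₃ ≅ (S.rightDerived (n + 2)).obj T.X₁) := by
  letI := HasDerivedCategory.standard C
  obtain ⟨δ, hd⟩ := exists_plusTriangle hT
  let F := HomotopyCategory.homologyFunctor D (.up ℤ) 0
  let Tr := (RK S).mapTriangle.obj (Triangle.mk ((DerivedCategory.Plus.singleFunctor C 0).map T.f)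
    ((DerivedCategory.Plus.singleFunctor C 0).map T.g) δ)
  let d := F.homologySequenceδ Tr ((n + 1 : ℕ) : ℤ) ((n + 2 : ℕ) : ℤ) (by omega)
  haveI : Mono d := (F.homologySequence_exact₃ Tr ((RK S).map_distinguished _ hd) ((n + 1 : ℕ) : ℤ)
    ((n + 2 : ℕ) : ℤ) (by omega)).mono_g (((hz n).of_iso (hhSingleZeroIso S T.X₂ (n + 1))).eq_of_src _ _)
  haveI : Epi d := (F.homologySequence_exact₁ Tr ((RK S).map_distinguished _ hd) ((n + 1 : ℕ) : ℤ)
    ((n + 2 : ℕ) : ℤ) (by omega)).epi_f (((hz (n + 1)).of_iso (hhSingleZeroIso S T.X₂ (n + 2))).eq_of_tgt _ _)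
  haveI : IsIso d := isIso_of_mono_of_epi d
  exact ⟨(hhSingleZeroIso S T.X₃ (n + 1)).symm ≪≫ asIso d ≪≫ hhSingleZeroIso S T.X₁ (n + 2)⟩

include hT in
/-- For an acyclic middle term, the cokernel of `S X₂ ⟶ S X₃` is `R¹ S X₁`. -/
theorem nonempty_cokernel_iso [PreservesFiniteLimits S] (hz : IsZero ((S.rightDerived 1).obj T.X₂)) :
    Nonempty (cokernel (S.map T.g) ≅ (S.rightDerived 1).obj T.X₁) := by
  letI := HasDerivedCategory.standard C
  obtain ⟨δ, hd⟩ := exists_plusTriangle hT
  let F := HomotopyCategory.homologyFunctor D (.up ℤ) 0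
  let Tr := (RK S).mapTriangle.obj (Triangle.mk ((DerivedCategory.Plus.singleFunctor C 0).map T.f)
    ((DerivedCategory.Plus.singleFunctor C 0).map T.g) δ)
  let c := F.comp_homologySequenceδ Tr ((RK S).map_distinguished _ hd) ((0 : ℕ) : ℤ) ((1 : ℕ) : ℤ) (by omega)
  have he : Epi (cokernel.desc _ _ c) := @epi_of_epi_fac _ _ _ _ _ _ _ _
    ((F.homologySequence_exact₁ Tr ((RK S).map_distinguished _ hd) ((0 : ℕ) : ℤ) ((1 : ℕ) : ℤ) (by omega)).epi_f
      ((hz.of_iso (hhSingleZeroIso S T.X₂ 1)).eq_of_tgt _ _)) (cokernel.π_desc _ _ c)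
  have hm : Mono (cokernel.desc _ _ c) := (F.homologySequence_exact₃ Tr ((RK S).map_distinguished _ hd)
    ((0 : ℕ) : ℤ) ((1 : ℕ) : ℤ) (by omega)).mono_cokernelDesc
  have hi : IsIso (cokernel.desc _ _ c) := @isIso_of_mono_of_epi _ _ _ _ _ _ hm he
  exact ⟨(cokerIso S T.g).symm ≪≫ @asIso _ _ _ _ (cokernel.desc _ _ c) hi ≪≫ hhSingleZeroIso S T.X₁ 1⟩

/-- An exact functor inverts a map of cokernels induced by a map it inverts. -/
theorem isIso_map_cokernel_desc {A B B' : C} (a : A ⟶ B) (a' : A ⟶ B') (β : B ⟶ B') (w : a ≫ β = a')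
    [PreservesFiniteColimits S] [IsIso (S.map β)] :
    IsIso (S.map (cokernel.desc a (β ≫ cokernel.π a')
      (by rw [← Category.assoc, w, cokernel.condition]))) := by
  let m := cokernel.desc a (β ≫ cokernel.π a') (by rw [← Category.assoc, w, cokernel.condition])
  let e : cokernel (S.map a) ≅ cokernel (S.map a') :=
    cokernel.mapIso (S.map a) (S.map a') (Iso.refl _) (asIso (S.map β))
      (by rw [Iso.refl_hom, Category.id_comp, asIso_hom, ← S.map_comp, w])
  have h : S.map m = ((PreservesCokernel.iso S a) ≪≫ e ≪≫ (PreservesCokernel.iso S a').symm).hom := by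
    rw [← cancel_epi (S.map (cokernel.π a)), ← S.map_comp, cokernel.π_desc, S.map_comp]
    simp only [Iso.trans_hom, Iso.symm_hom, PreservesCokernel.π_iso_hom_assoc, e, cokernel.mapIso_hom,
      cokernel.π_desc_assoc, asIso_hom, Category.assoc]
    congr 1
    rw [Iso.eq_comp_inv]; simp
  rw [show S.map (cokernel.desc a (β ≫ cokernel.π a') _) = S.map m from rfl, h]
  infer_instance

end Groth.L23.Lisse
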