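import Groth.Agent.L23.Lisse.Main
import Groth.Agent.L27.SmoothLA.Main
import Groth.Agent.L28.EtTor.Basic
import Groth.Agent.L28.Misc.ConnFLC

/-!
# Smooth proper morphisms and local constancy
-/

set_option autoImplicit false
set_option linter.style.haveILetI false
set_option linter.unusedSectionVars false
set_option linter.overlappingInstances false
set_option backward.isDefEq.respectTransparency false
set_option backward.isDefEq.respectTransparency.types false

universe u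

open CategoryTheory CategoryTheory.Limits AlgebraicGeometry Opposite IsLocalRing

noncomputable section

namespace Groth.L23.Lisse

open Groth.L27

/-- Each geometric stalk is killed by an integer invertible in the residue field. -/
def StalkTors {X : Scheme.{u}} (F : EtCoh.Ab X) : Prop :=
  ∀ (Ω : Type u) [Field Ω] [IsSepClosed Ω] (ξ : Spec (CommRingCat.of Ω) ⟶ X),
    ∃ n : ℕ, 0 < n ∧ (n : Ω) ≠ 0 ∧ ∀ s : (EtCoh.stalk ξ).obj F, n • s = 0

theorem isTorsion_of_stalkTors {X : Scheme.{u}} {F : EtCoh.Ab X} (h : StalkTors F) : EtCoh.IsTorsion F :=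
  AffineEfface.isTorsion_of_isLTorsion (L := Set.univ) (L28.EtTor.isLTorsion_iff_stalks.2 fun Ω _ _ ξ t => by
    obtain ⟨m, hm, -, hs⟩ := h Ω ξ
    exact ⟨m, ⟨hm, fun _ _ _ => trivial⟩, hs t⟩)

theorem nsmul_stalk_of_killedBy {X : Scheme.{u}} {F : EtCoh.Ab X} {n : ℕ} (h : EtCoh.KilledBy n F) {Ω : Type u}
    [Field Ω] [IsSepClosed Ω] (ξ : Spec (CommRingCat.of Ω) ⟶ X) (t : (EtCoh.stalk ξ).obj F) : n • t = 0 := by
  obtain ⟨U, u, s, rfl⟩ := (Scheme.pointSmallEtale ξ).toPresheafFiber_jointly_surjective (P := F.obj) t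
  exact ((map_nsmul ((Scheme.pointSmallEtale ξ).toPresheafFiber U u F.obj).hom n s).symm.trans
    (congrArg _ (h U s))).trans (map_zero _)

theorem natCast_ne_zero_of_isUnit_top {X Y : Scheme.{u}} (f : X ⟶ Y) {n : ℕ} (hn : IsUnit (n : Γ(Y, ⊤)))
    {Ω : Type u} [Field Ω] (ξ : Spec (CommRingCat.of Ω) ⟶ X) : (n : Ω) ≠ 0 := by
  have h := hn.map ((Scheme.ΓSpecIso (CommRingCat.of Ω)).hom.hom.comp (ξ ≫ f).appTop.hom)
  rw [map_natCast] at h
  exact h.ne_zero

theorem stalkTors_of_killedBy {X Y : Scheme.{u}} (f : X ⟶ Y) {F : EtCoh.Ab X} {n : ℕ}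
    (hn : IsUnit (n : Γ(Y, ⊤))) (h : EtCoh.KilledBy n F) : StalkTors F := fun Ω _ _ ξ => by
  have hne := natCast_ne_zero_of_isUnit_top f hn ξ
  refine ⟨n, Nat.pos_of_ne_zero fun h0 => hne ?_, hne, nsmul_stalk_of_killedBy h ξ⟩
  rw [h0, Nat.cast_zero]

theorem isUnit_natCast_of_closedPoint (R : Type u) [CommRing R] [IsLocalRing R] {Ω : Type u} [Field Ω] {p : ℕ}
    (η : Spec (CommRingCat.of Ω) ⟶ Spec (CommRingCat.of R)) (h : η default = closedPoint R) (hp : (p : Ω) ≠ 0) :
    IsUnit (p : R) := by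
  by_contra hu
  let φ := Spec.preimage η
  have hm : (p : R) ∈ (η default).asIdeal := by
    rw [h]
    exact hu
  rw [← Spec.map_preimage η] at hm
  have h0 : φ.hom (p : R) ∈ (default : Spec (CommRingCat.of Ω)).asIdeal := hm
  rw [map_natCast] at h0
  exact (default : Spec (CommRingCat.of Ω)).2.ne_top (Ideal.eq_top_of_isUnit_mem _ h0 (isUnit_iff_ne_zero.2 hp))

theorem natCast_residueField_ne_zero {R : Type u} [CommRing R] {T : Scheme.{u}} (g : T ⟶ Spec (CommRingCat.of R))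
    (x : T) {p : ℕ} (hp : IsUnit (p : R)) : (p : T.residueField x) ≠ 0 := by
  have h := hp.map (Spec.preimage (T.fromSpecResidueField x ≫ g)).hom
  rw [map_natCast] at h
  exact h.ne_zero

theorem exists_prime_isUnit (R : Type u) [CommRing R] [IsLocalRing R] : ∃ p : ℕ, p.Prime ∧ IsUnit (p : R) := by
  by_cases h : IsUnit ((2 : ℕ) : R)
  · exact ⟨2, Nat.prime_two, h⟩
  · refine ⟨3, Nat.prime_three, ?_⟩
    have e : ((3 : ℕ) : R) + -((2 : ℕ) : R) = 1 := by norm_num
    rcases isUnit_or_isUnit_of_isUnit_add (e ▸ isUnit_one) with h' | h'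
    · exact h'
    · exact absurd (by simpa using h'.neg) h

variable {X S : Scheme.{u}} (f : X ⟶ S) [IsProper f] [Smooth f] (F : EtCoh.Ab X)
  (hlc : EtCoh.IsFiniteLocallyConstant F) (ht : StalkTors F)

include hlc ht in
/-- Over a strictly local base the stalks have order invertible on the base. -/
theorem isLTorsion_strict (R : Type u) [CommRing R] [HenselianLocalRing R] [IsSepClosed (ResidueField R)]
    (a : Spec (CommRingCat.of R) ⟶ S) :
    EtAcyc.IsLTorsion {ℓ : ℕ | IsUnit (ℓ : R)} ((EtCoh.pull (pullback.fst f a)).obj F) := by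
  let fR := pullback.snd f a
  let gX := pullback.fst f a
  haveI : IsProper fR := MorphismProperty.pullback_snd (P := @IsProper) _ _ inferInstance
  haveI := EtSite.preservesFiniteLimits_pull gX
  let H := (EtCoh.pull gX).obj F
  have hH : EtCoh.IsFiniteLocallyConstant H := L28.LocConst.isFiniteLocallyConstant_pull gX F hlc
  refine L28.EtTor.isLTorsion_iff_stalks.2 fun Ω _ _ ξ t => ?_
  haveI : Finite ((EtCoh.stalk ξ).obj H) := L28.Spz.finite_stalk' (L28.Spz.isConstructible_of_isFLC hH) ξ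
  refine ⟨Nat.card ((EtCoh.stalk ξ).obj H), ⟨Nat.card_pos, fun p hp hd => ?_⟩, card_nsmul_eq_zero'⟩
  obtain ⟨y, hxy, hy⟩ : ∃ y, ξ default ⤳ y ∧ fR y = closedPoint R := by
    have hcl : IsClosed (fR '' closure {ξ default}) := fR.isClosedMap _ isClosed_closure
    obtain ⟨y, hy, e⟩ := (IsLocalRing.specializes_closedPoint (fR (ξ default))).mem_closed hcl
      ⟨_, subset_closure rfl, rfl⟩
    exact ⟨y, specializes_iff_mem_closure.2 hy, e⟩
  obtain ⟨Ω', _, _, ζ, hζ⟩ := EtSite.exists_geometric_point y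
  obtain ⟨m, -, hm, hkill⟩ := ht Ω' (ζ ≫ gX)
  have hx : ξ default ∈ L28.Spz.cardLocus H (Nat.card ((EtCoh.stalk ξ).obj H)) := fun Ω₁ _ _ ξ₁ e =>
    (L28.Spz.card_eq H ξ₁ ξ e).symm
  have hyc : Nat.card ((EtCoh.stalk ζ).obj H) = Nat.card ((EtCoh.stalk ξ).obj H) :=
    hxy.mem_closed (L28.Spz.isClopen_cardLocus hH _).1 hx Ω' ζ hζ
  rw [L28.Spz.card_pull] at hyc
  rw [← hyc] at hd
  haveI : Finite ((EtCoh.stalk (ζ ≫ gX)).obj F) := L28.Spz.finite_stalk' (L28.Spz.isConstructible_of_isFLC hlc) _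
  haveI : Fact p.Prime := ⟨hp⟩
  obtain ⟨s, hs⟩ := exists_prime_addOrderOf_dvd_card' p hd
  obtain ⟨c, hc⟩ := (hs ▸ addOrderOf_dvd_of_nsmul_eq_zero (hkill s) : p ∣ m)
  refine isUnit_natCast_of_closedPoint R (ζ ≫ fR) ?_ fun h0 => hm (by rw [hc, Nat.cast_mul, h0, zero_mul])
  exact (Scheme.Hom.comp_apply _ _ _).trans ((congrArg fR hζ).trans hy)

include hlc ht in
/-- Higher direct images along smooth proper morphisms of finite locally constant sheaves are finite locally
constant. -/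
theorem isFLC_Rpush_smooth (q : ℕ) : EtCoh.IsFiniteLocallyConstant ((EtCoh.Rpush f q).obj F) := by
  have htt := isTorsion_of_stalkTors ht
  refine isFLC_of_hasCospec (PFin.isConstructible_Rpush f F (L28.Spz.isConstructible_of_isFLC hlc) htt q)
    (hasCospec_Rpush_of_strict f q F hlc htt q le_rfl fun R _ _ _ a _ => ?_)
  obtain ⟨p, hp, hpu⟩ := exists_prime_isUnit R
  haveI : Smooth (pullback.snd f a) := MorphismProperty.pullback_snd (P := @Smooth) _ _ inferInstance
  exact ⟨{ℓ : ℕ | IsUnit (ℓ : R)}, ⟨p, hpu, hp⟩,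
    SmoothLA.isLocAcyclicN_smooth _ _ (fun ℓ hℓ _ x => natCast_residueField_ne_zero (pullback.snd f a) x hℓ) q,
    isLTorsion_strict f F hlc ht R a⟩

end Groth.L23.Lisse

namespace Groth.L23.Lisse

open Groth.L27

/-- On a connected scheme the stalks of a finite locally constant sheaf are isomorphic. -/
theorem nonempty_stalk_iso_of_connected {Y : Scheme.{u}} [ConnectedSpace Y] {G : EtCoh.Ab Y}
    (hG : EtCoh.IsFiniteLocallyConstant G) {Ω Ω' : Type u} [Field Ω] [IsSepClosed Ω] [Field Ω'] [IsSepClosed Ω']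
    (a : Spec (CommRingCat.of Ω) ⟶ Y) (b : Spec (CommRingCat.of Ω') ⟶ Y) :
    Nonempty ((EtCoh.stalk a).obj G ≅ (EtCoh.stalk b).obj G) := by
  obtain ⟨M, _, _, ι, U, hU, e⟩ := L28.Misc.exists_single_group G hG
  obtain ⟨i, z, hz⟩ := hU (a default)
  obtain ⟨j, w, hw⟩ := hU (b default)
  obtain ⟨y, -⟩ := EtSite.exists_fiber a (U i) z hz
  obtain ⟨y', -⟩ := EtSite.exists_fiber b (U j) w hw
  obtain ⟨e₁⟩ := L28.Locus.stalk_trivialised (e i).some a y
  obtain ⟨e₂⟩ := L28.Locus.stalk_trivialised (e j).some b y'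
  exact ⟨e₁ ≪≫ e₂.symm⟩

end Groth.L23.Lisse
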